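import Mathlib
import Cfsg.Agent.Syl2.Sp
import Cfsg.Agent.Herm.Iso
import Cfsg.Agent.Classical.GLBasic

/-!
Sylow 2-subgroups of the linear groups in odd characteristic.
-/

set_option autoImplicit false
set_option backward.isDefEq.respectTransparency false

namespace Cfsg.Agent.Syl2

open Subgroup Module Equiv
open scoped commutatorElement Pointwise

section
variable {G : Type*} [Group G]

theorem el_inf [Finite G] {N : Subgroup G} [hN : N.Normal] (h : ∀ Q : Sylow 2 N, El (Q : Subgroup N))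
    (S : Sylow 2 G) : El ((S : Subgroup G) ⊓ N) := by
  obtain ⟨Q⟩ : Nonempty (Sylow 2 N) := inferInstance
  obtain ⟨R, hR⟩ := Q.exists_comap_subtype_eq
  obtain ⟨g, rfl⟩ := MulAction.exists_smul_eq G R S
  have h1 := ((h Q).map N.subtype).map (MulAut.conj g).toMonoidHom
  rw [← hR, ← subgroupOf, subgroupOf_map_subtype, map_inf _ _ _ (MulAut.conj g).injective] at h1
  rwa [show N.map (MulAut.conj g).toMonoidHom = N from hN.conj_smul_eq_self g] at h1

theorem card_le_of_conj [Finite G] {D K : Subgroup G} {x : G} (hx : x ≠ 1)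
    (h1 : ∀ d ∈ D, d * x * d⁻¹ ∈ K) (h2 : ∀ d ∈ D, d * x = x * d → d ∈ K) :
    Nat.card D ≤ Nat.card K * (Nat.card K - 1) := by
  letI := MulAction.compHom G (MulAut.conj.comp D.subtype)
  rw [← (MulAction.stabilizer D x).card_mul_index, MulAction.index_stabilizer]
  refine Nat.mul_le_mul (Nat.card_le_card_of_injective (fun d => (⟨d.1.1, h2 _ d.1.2
    (mul_inv_eq_iff_eq_mul.1 d.2)⟩ : K)) fun a b h => Subtype.ext (Subtype.ext
      (Subtype.mk.inj h))) (Nat.le_sub_one_of_lt (Set.ncard_lt_ncard ⟨?_, fun h => ?_⟩))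
  · rintro _ ⟨d, rfl⟩
    exact h1 _ d.2
  · obtain ⟨d, hd⟩ := h K.one_mem
    exact hx (conj_eq_one_iff.1 hd)

theorem exists_transitive (j : ℕ) : ∃ T : Sylow 2 (Perm (Fin (2 ^ j))),
    ∀ i, ∃ σ ∈ (T : Subgroup (Perm (Fin (2 ^ j)))), σ 0 = i := by
  obtain ⟨T, hT⟩ := ((IsPGroup.of_card (p := 2) (G := (⊤ : Subgroup (Multiplicative (Fin (2 ^ j))))) (n := j)
    (by simp)).map (MulAction.toPermHom _ (Fin (2 ^ j)))).exists_le_sylow
  exact ⟨T, fun i => ⟨_, hT (mem_map_of_mem _ (mem_top (Multiplicative.ofAdd i))), add_zero i⟩⟩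

theorem Wr.le_of_normal {I D R : Type*} [Group D] [Group R] [DecidableEq I] (W : Wr G I D R)
    {D₀ Z : Subgroup D} {T : Subgroup (Perm I)} {R₀ : Subgroup R} {E : Subgroup G}
    (h1 : E ≤ W.sub D₀ T R₀) (h2 : ∀ g ∈ W.sub D₀ T R₀, ∀ e ∈ E, g * e * g⁻¹ ∈ E)
    (hc : IsMulCommutative E) (hs : ∀ e ∈ E, e ^ 2 = 1) {d : D} (hd : d ∈ D₀) (hd' : d ^ 2 ≠ 1)
    (hZ : ∀ x ∈ D₀, x ^ 2 = 1 → (∀ d ∈ D₀, Commute (d * x * d⁻¹) x) → x ∈ Z) :
    E ≤ W.sub Z ⊥ R₀ := by
  intro e he
  obtain ⟨f, σ, r, hf, hσ, hr, rfl⟩ := h1 he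
  have h3 : σ = 1 := by
    ext i
    by_contra hi
    have := hs _ (mul_mem (h2 _ (W.δ_mem (σ i) hd) _ he) (inv_mem he))
    simp only [δ_apply, β_eq, el_inv, el_mul, pow_two, ← W.el_one] at this
    have := congrFun (W.el_inj this).1 (σ i)
    exact hd' (by
      simpa [Pi.mulSingle_eq_of_ne (show i ≠ σ i from Ne.symm hi), pow_two, Perm.one_symm] using this)
  subst h3
  refine W.el_mem.2 ⟨fun i => hZ _ (hf i) ?_ fun d hd => ?_, one_mem _, hr⟩
  · have := hs _ he
    rw [pow_two, el_mul, ← W.el_one] at this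
    exact (pow_two _).trans (congrFun (W.el_inj this).1 i)
  · have := congrArg Subtype.val (hc.is_comm.comm ⟨_, h2 _ (W.δ_mem i hd) _ he⟩ ⟨_, he⟩)
    simp only [coe_mul, δ_apply, β_eq, el_inv, el_mul] at this
    simpa [Perm.one_symm, commute_iff_eq] using congrFun (W.el_inj this).1 i

end

variable {F U W V I : Type*} [Field F] [AddCommGroup U] [Module F U] [AddCommGroup W] [Module F W]
  [AddCommGroup V] [Module F V]

variable (F V) in
/-- the special linear group -/
noncomputable abbrev SLK : Subgroup (V ≃ₗ[F] V) := (LinearEquiv.det (R := F) (M := V)).ker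

/-- matrices of determinant one -/
noncomputable def slEquiv {n : ℕ} (b : Basis (Fin n) F V) :
    Matrix.SpecialLinearGroup (Fin n) F ≃* SLK F V :=
  (Matrix.SpecialLinearGroup.toLin_equiv b).trans ⟨Equiv.refl _, fun _ _ => rfl⟩

/-- invertible matrices -/
noncomputable def glEquiv {n : ℕ} (b : Basis (Fin n) F V) : GL (Fin n) F ≃* (V ≃ₗ[F] V) :=
  (Matrix.GeneralLinearGroup.toLin' b).trans (LinearMap.GeneralLinearGroup.generalLinearEquiv F V)

theorem commutator_le_SLK : commutator (V ≃ₗ[F] V) ≤ SLK F V :=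
  Abelianization.commutator_subset_ker _

section
variable [Fintype I] [Nontrivial U] [FiniteDimensional F U] [FiniteDimensional F W]

theorem det_β (f : I → U ≃ₗ[F] U) :
    LinearEquiv.det ((linWr F I U W).β f) = ∏ i, LinearEquiv.det (f i) := by
  ext
  rw [LinearEquiv.coe_det, show ((linWr F I U W).β f).toLinearMap =
    (LinearMap.pi fun i => (f i : U →ₗ[F] U).comp (LinearMap.proj i)).prodMap LinearMap.id from rfl,
    LinearMap.det_prodMap, LinearMap.det_pi]
  simp [LinearEquiv.coe_det]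

theorem det_δ [DecidableEq I] (i : I) (d : U ≃ₗ[F] U) :
    LinearEquiv.det ((linWr F I U W).δ i d) = LinearEquiv.det d := by
  rw [Wr.δ_apply, det_β, Finset.prod_eq_single i (fun j _ hj => by simp [hj]) (by simp)]
  simp

theorem det_ρ (r : W ≃ₗ[F] W) : LinearEquiv.det ((linWr F I U W).ρ r) = LinearEquiv.det r := by
  ext
  rw [LinearEquiv.coe_det, show ((linWr F I U W).ρ r).toLinearMap =
    LinearMap.id.prodMap (r : W →ₗ[F] W) from rfl, LinearMap.det_prodMap]
  simp [LinearEquiv.coe_det]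

end

theorem π_mem_SLK [Finite I] (σ : Perm I) : (linWr F I (Fin 2 → F) W).π σ ∈ SLK F _ :=
  commutator_le_SLK (π_mem_commutator (K := ⊤) (fun _ => mem_top _) (mem_top _) σ)

theorem det_sw : LinearEquiv.det (sw F) = -1 := by
  ext
  rw [LinearEquiv.coe_det, ← LinearMap.det_toMatrix', Matrix.det_fin_two]
  simp [sw_apply]

theorem sw_mul_self : sw F * sw F = 1 := by
  ext x i
  fin_cases i <;> rfl

theorem eq_one_of_det {r : ℕ} (hr : r ≤ 1) {g : (Fin r → F) ≃ₗ[F] (Fin r → F)}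
    (h : LinearEquiv.det g = 1) : g = 1 := by
  interval_cases r
  · exact Subsingleton.elim _ _
  · exact congrArg Subtype.val ((SpecialLinearGroup.subsingleton_of_finrank_eq_one (R := F)
      (V := Fin 1 → F) (by simp)).elim ⟨g, h⟩ 1)

variable [Finite F] (h2 : (2 : F) ≠ 0)

theorem units_sq (hq : Nat.card F % 4 = 3) {u : Fˣ} {k : ℕ} (h : u ^ 2 ^ k = 1) :
    u = 1 ∨ u = -1 := by
  obtain ⟨j, hj, h1⟩ := (Nat.dvd_prime_pow Nat.prime_two).1 (orderOf_dvd_of_pow_eq_one h)
  have h3 := orderOf_dvd_natCard u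
  rw [Nat.card_units, h1] at h3
  have h4 : j ≤ 1 := by
    by_contra h4
    have := (pow_dvd_pow 2 (show 2 ≤ j by omega)).trans h3
    omega
  have h5 : u ^ 2 = 1 := orderOf_dvd_iff_pow_eq_one.1 (h1 ▸ pow_dvd_pow 2 h4)
  exact ((sq_eq_one_iff (a := (u : F))).1 (congrArg Units.val h5)).imp Units.ext Units.ext

theorem det_cases (hq : Nat.card F % 4 = 3) {P : Subgroup (V ≃ₗ[F] V)} (hP : IsPGroup 2 P)
    {g : V ≃ₗ[F] V} (hg : g ∈ P) : LinearEquiv.det g = 1 ∨ LinearEquiv.det g = -1 := by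
  obtain ⟨k, hk⟩ := hP ⟨g, hg⟩
  exact units_sq hq (k := k) (by rw [← map_pow, show g ^ 2 ^ k = 1 from congrArg Subtype.val hk, map_one])

include h2

theorem val_gl [FiniteDimensional F V] {n : ℕ} (hn : finrank F V = n) :
    (Nat.card (V ≃ₗ[F] V)).factorization 2 =
      (∏ i ∈ Finset.range n, (Nat.card F ^ (i + 1) - 1)).factorization 2 := by
  have h1 : 1 < Nat.card F := Finite.one_lt_card
  rw [Herm.card_linearEquiv hn, Classical.GLBasic.prod_pow_sub_pow, val_mul (by positivity)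
    (Finset.prod_ne_zero_iff.2 fun i _ => pow_sub_one_ne h1 (by omega)), val_odd (odd_card h2).pow,
    zero_add, Fin.prod_univ_eq_prod_range (fun i => Nat.card F ^ (n - i) - 1),
    ← Finset.prod_range_reflect]
  congr 2
  exact Finset.prod_congr rfl fun i hi => by
    rw [Finset.mem_range] at hi
    rw [show n - (n - 1 - i) = i + 1 by omega]

theorem exists_sylow_two {m r : ℕ} (hr : r ≤ 1) (D : Sylow 2 ((Fin 2 → F) ≃ₗ[F] (Fin 2 → F)))
    (T : Sylow 2 (Perm (Fin m))) (R : Sylow 2 ((Fin r → F) ≃ₗ[F] (Fin r → F))) :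
    ∃ S : Sylow 2 _, S.toSubgroup = (linWr F (Fin m) (Fin 2 → F) (Fin r → F)).sub D T R := by
  have h1 : 1 < Nat.card F := Finite.one_lt_card
  have hq := odd_card h2
  refine Wr.exists_sylow _ D T R ?_
  rw [val_gl h2 (n := 2 * m + r) (by simp [finrank_pi_fintype, mul_comm]),
    val_gl h2 (n := 2 * 1) (by simp), val_gl h2 (n := r) (by simp), val_prod_gl h1 hq,
    Fintype.card_fin]
  interval_cases r
  · simp [val_prod_gl h1 hq]
  · rw [Finset.prod_range_succ, val_mul (Finset.prod_ne_zero_iff.2 fun _ _ => pow_sub_one_ne h1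
      (by omega)) (pow_sub_one_ne h1 (by omega)), val_prod_gl h1 hq,
      val_pow_odd h1 hq (odd_two_mul_add_one m)]
    simp

theorem el_inf_SLK (D : Sylow 2 ((Fin 2 → F) ≃ₗ[F] (Fin 2 → F))) :
    El ((D : Subgroup _) ⊓ SLK F (Fin 2 → F)) :=
  el_inf (fun Q => (sylow_SL2 h2 (slEquiv (Pi.basisFun F _)).symm Q).1) D

theorem δ_mem_sqE [Fintype I] [DecidableEq I] [FiniteDimensional F W]
    (D : Sylow 2 ((Fin 2 → F) ≃ₗ[F] (Fin 2 → F))) {T : Subgroup (Perm I)}
    {R : Subgroup (W ≃ₗ[F] W)} (i : I) {d : (Fin 2 → F) ≃ₗ[F] (Fin 2 → F)}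
    (hd : d ∈ (D : Subgroup _)) (hd' : LinearEquiv.det d = 1) :
    (linWr F I (Fin 2 → F) W).δ i d ∈ sqE ((linWr F I (Fin 2 → F) W).sub D T R ⊓ SLK F _) := by
  refine sqE_mono ?_ (map_sqE_le _ _ (mem_map_of_mem _ (el_inf_SLK h2 D ⟨hd, hd'⟩)))
  rintro _ ⟨x, hx, rfl⟩
  exact ⟨Wr.δ_mem _ i hx.1, (det_δ i x).trans hx.2⟩

theorem el_sl_three (hq : Nat.card F % 4 = 3) {m r n : ℕ} (hm : 1 ≤ m) (hr : r ≤ 1)
    (hn : n = 2 * m + r) (P : Sylow 2 (Matrix.SpecialLinearGroup (Fin n) F)) :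
    El (P : Subgroup (Matrix.SpecialLinearGroup (Fin n) F)) := by
  obtain ⟨D, hD⟩ := (show IsPGroup 2 (zpowers (sw F)) from IsPGroup.of_card (n := 1) (by
    rw [Nat.card_zpowers, orderOf_eq_prime (p := 2) (by rw [pow_two, sw_mul_self]) fun h => ?_]
    · rfl
    · have := det_sw (F := F)
      rw [h, map_one, Units.ext_iff, Units.val_neg, eq_neg_iff_add_eq_zero] at this
      exact h2 (by rw [← this]; norm_num))).exists_le_sylow
  replace hD := hD (mem_zpowers _)
  obtain ⟨T⟩ : Nonempty (Sylow 2 (Perm (Fin m))) := inferInstance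
  obtain ⟨R⟩ : Nonempty (Sylow 2 ((Fin r → F) ≃ₗ[F] (Fin r → F))) := inferInstance
  obtain ⟨S, hS⟩ := exists_sylow_two h2 hr D T R
  set Z := linWr F (Fin m) (Fin 2 → F) (Fin r → F)
  refine el_sylow (N := SLK F _) S (hS ▸ Z.el_sub π_mem_SLK (FGS.genP_sylow 2 _ T).1 ⟨0, hm⟩
    (X := {x | x ∈ (D : Subgroup _) ∧ (LinearEquiv.det x = 1 ∨ x = sw F)}) (fun d hd => ?_)
    (fun x hx => ⟨hx.1, fun i => ?_⟩) subset_closure (fun y hy => ?_)
    fun d hd hd' => δ_mem_sqE h2 D _ hd ((det_δ _ d).symm.trans hd'))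
    (slEquiv (finBasisOfFinrankEq F _ (by simp [finrank_pi_fintype, mul_comm, hn]))) P
  · rcases det_cases hq D.isPGroup' hd with h | h
    · exact subset_closure ⟨hd, .inl h⟩
    · rw [← mul_inv_cancel_right d (sw F)]
      exact mul_mem (subset_closure ⟨mul_mem hd hD, .inl (by simp [h, det_sw])⟩)
        (inv_mem (subset_closure ⟨hD, .inr rfl⟩))
  · rcases hx.2 with h | rfl
    · exact mul_mem (δ_mem_sqE h2 D _ hx.1 h) (inv_mem (δ_mem_sqE h2 D _ hx.1 h))
    · refine mem_sqE_of_sq (mem_inf.2 ⟨mul_mem (Z.δ_mem _ hD) (inv_mem (Z.δ_mem _ hD)),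
        Z.δ_mul_inv_mem commutator_le_SLK _ _ _⟩) ?_
      by_cases hi : i = ⟨0, hm⟩
      · simp [hi]
      · rw [← map_inv, (Z.δ_commute hi _ _).symm.mul_mul_mul_comm, ← map_mul, ← map_mul,
          ← mul_inv_rev, sw_mul_self, inv_one, map_one, map_one, mul_one]
  · rcases det_cases hq R.isPGroup' hy with h | h
    · exact ⟨1, one_mem _, by simp [eq_one_of_det hr h]⟩
    · refine ⟨_, hD, mem_sqE_of_sq (mem_inf.2 ⟨mul_mem (Z.ρ_mem hy) (Z.δ_mem _ hD), ?_⟩) ?_⟩
      · rw [MonoidHom.mem_ker, map_mul, det_ρ, det_δ, h, det_sw]; simp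
      · rw [(Z.ρ_commute_δ y _ _).symm.mul_mul_mul_comm, ← map_mul, ← map_mul, sw_mul_self,
          eq_one_of_det hr (g := y * y) (by simp [h]), map_one, map_one, mul_one]

theorem el_sl_pow (j : ℕ) (P : Sylow 2 (Matrix.SpecialLinearGroup (Fin (2 * 2 ^ j)) F)) :
    El (P : Subgroup (Matrix.SpecialLinearGroup (Fin (2 * 2 ^ j)) F)) := by
  obtain ⟨D⟩ : Nonempty (Sylow 2 ((Fin 2 → F) ≃ₗ[F] (Fin 2 → F))) := inferInstance
  obtain ⟨T, hT⟩ := exists_transitive j
  obtain ⟨R⟩ : Nonempty (Sylow 2 ((Fin 0 → F) ≃ₗ[F] (Fin 0 → F))) := inferInstance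
  obtain ⟨S, hS⟩ := exists_sylow_two h2 zero_le_one D T R
  set Z := linWr F (Fin (2 ^ j)) (Fin 2 → F) (Fin 0 → F)
  refine el_sylow (N := SLK F _) S (hS ▸ Z.el_sub π_mem_SLK (FGS.genP_sylow 2 _ T).1 0
    subset_closure (fun x hx => ⟨hx, fun i => ?_⟩) (Y := ∅) (Subsingleton.elim _ _).le (by simp)
    fun d hd hd' => δ_mem_sqE h2 D _ hd ((det_δ _ d).symm.trans hd'))
    (slEquiv (finBasisOfFinrankEq F _ (by simp [finrank_pi_fintype, mul_comm]))) P
  obtain ⟨σ, hσ, rfl⟩ := hT i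
  exact Z.δ_orbit commutator_le_SLK π_mem_SLK (FGS.genP_sylow 2 _ T).1 hx hσ 0

omit [Finite F] h2 in
theorem neg_sq : LinearEquiv.neg F (M := V) ^ 2 = 1 := by
  ext x
  simp [pow_two]

omit [Finite F] h2 in
theorem zpowers_neg_le : zpowers (LinearEquiv.neg F (M := V)) ≤ center _ :=
  zpowers_le.2 (mem_center_iff.2 fun g => by ext x; simp)

omit [Finite F] h2 in
theorem zpowers_neg_sq : ∀ d ∈ zpowers (LinearEquiv.neg F (M := V)), d ^ 2 = 1 := by
  rintro _ ⟨k, rfl⟩
  rw [← zpow_natCast, ← zpow_mul, mul_comm, zpow_mul, zpow_natCast, neg_sq, one_zpow]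

omit [Finite F] in
theorem card_zpowers_neg [Nontrivial V] : Nat.card (zpowers (LinearEquiv.neg F (M := V))) = 2 := by
  rw [Nat.card_zpowers, orderOf_eq_prime neg_sq fun h => ?_]
  obtain ⟨v, hv⟩ := exists_ne (0 : V)
  have : -v = v := LinearEquiv.congr_fun h v
  rw [neg_eq_iff_add_eq_zero, ← two_smul F] at this
  exact hv ((smul_eq_zero_iff_right h2).1 this)

omit [Finite F] h2 in
theorem zpowers_neg_le_sylow (D : Sylow 2 (V ≃ₗ[F] V)) :
    zpowers (LinearEquiv.neg F (M := V)) ≤ D := by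
  have : (zpowers (LinearEquiv.neg F (M := V))).Normal := ⟨fun x hx g => by
    rwa [mem_center_iff.1 (zpowers_neg_le hx) g, mul_inv_cancel_right]⟩
  exact IsPGroup.le_sylow_of_normal (fun x => ⟨1, Subtype.ext (zpowers_neg_sq x.1 x.2)⟩) D

omit h2 in
theorem normal_ea_gl [Fintype I] [Nontrivial U] [FiniteDimensional F U] [FiniteDimensional F W]
    {G : Type*} [Group G] (e : G ≃* (((I → U) × W) ≃ₗ[F] ((I → U) × W))) (S : Sylow 2 G)
    (S₀ : Sylow 2 (((I → U) × W) ≃ₗ[F] ((I → U) × W))) (D : Sylow 2 (U ≃ₗ[F] U))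
    (T : Subgroup (Perm I)) (R : Sylow 2 (W ≃ₗ[F] W))
    (hS : S₀.toSubgroup = (linWr F I U W).sub D T R) :
    ∃ E : Subgroup (S : Subgroup G), E.Normal ∧ Cfsg.IsElementaryAbelian 2 E ∧
      Nat.card E = Nat.card (zpowers (LinearEquiv.neg F (M := U))) ^ Nat.card I *
        Nat.card (zpowers (LinearEquiv.neg F (M := W))) := by
  have : Finite G := Finite.of_equiv _ e.symm.toEquiv
  set Z := linWr F I U W
  obtain ⟨E, h6, h7, h8⟩ := exists_normal_ea (S.mapSurjective (f := e.toMonoidHom) e.surjective) S₀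
    (E := Z.sub (zpowers (LinearEquiv.neg F)) ⊥ (zpowers (LinearEquiv.neg F)))
    (hS ▸ Z.sub_mono (zpowers_neg_le_sylow D) bot_le (zpowers_neg_le_sylow R))
    (hS ▸ (Z.sub_mono le_top le_top le_top).trans
      (Z.normalizer_central zpowers_neg_le zpowers_neg_le))
    (Z.comm_sub inferInstance inferInstance) (Z.sq_sub zpowers_neg_sq zpowers_neg_sq)
  have := h7.1
  let e' : (S.mapSurjective (f := e.toMonoidHom) e.surjective).toSubgroup ≃* S.toSubgroup :=
    (e.subgroupMap S).symm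
  refine ⟨E.map e'.toMonoidHom, h6.map _ e'.surjective, ⟨inferInstance, ?_⟩, ?_⟩
  · rintro _ ⟨a, ha, rfl⟩
    rw [← map_pow, h7.2 a ha, map_one]
  · rw [card_map_of_injective e'.injective, h8, Wr.card_sub]; simp

theorem rankLE_gl (n : ℕ) : Cfsg.PRankLE 2 n (GL (Fin n) F) :=
  rankLE_of (glEquiv (Pi.basisFun F _)).toMonoidHom (glEquiv _).injective fun A _ hc hs => by
    simpa using card_le_gl h2 hc hs

theorem normal_ea_one (hq : Nat.card F % 4 = 1) (n : ℕ) (S : Sylow 2 (GL (Fin n) F)) :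
    ∃ E : Subgroup (S : Subgroup (GL (Fin n) F)), E.Normal ∧ Cfsg.IsElementaryAbelian 2 E ∧
      2 ^ n ≤ Nat.card E := by
  have h1 : 1 < Nat.card F := Finite.one_lt_card
  have ho := odd_card h2
  obtain ⟨D⟩ : Nonempty (Sylow 2 ((Fin 1 → F) ≃ₗ[F] (Fin 1 → F))) := inferInstance
  obtain ⟨T⟩ : Nonempty (Sylow 2 (Perm (Fin n))) := inferInstance
  obtain ⟨R⟩ : Nonempty (Sylow 2 ((Fin 0 → F) ≃ₗ[F] (Fin 0 → F))) := inferInstance
  obtain ⟨S₀, hS⟩ := (linWr F (Fin n) (Fin 1 → F) (Fin 0 → F)).exists_sylow D T R (by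
    rw [val_gl h2 (n := n) (by simp [finrank_pi_fintype]), val_gl h2 (n := 1) (by simp),
      val_gl h2 (n := 0) (by simp), Fintype.card_fin]
    clear S T
    induction n with
    | zero => simp
    | succ n ih =>
      have e1 := val_sub_add h1 ho (k := n + 1) n.succ_ne_zero
      have e2 := val_sub_add h1 ho one_ne_zero
      have e3 : Nat.card F ^ (n + 1) % 4 = 1 := by rw [Nat.pow_mod, hq]; simp
      rw [val_of_mod (a := Nat.card F ^ (n + 1) + 1) (by omega)] at e1
      rw [pow_one, val_of_mod (a := Nat.card F + 1) (by omega)] at e2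
      rw [Finset.prod_range_succ, val_mul (Finset.prod_ne_zero_iff.2 fun _ _ => pow_sub_one_ne h1
        (by omega)) (pow_sub_one_ne h1 (by omega)), ih, Nat.factorial_succ,
        val_mul n.succ_ne_zero n.factorial_ne_zero, add_one_mul]
      simp at e1 e2 ⊢
      omega)
  obtain ⟨E, h3, h4, h5⟩ := normal_ea_gl (glEquiv (finBasisOfFinrankEq F _
    (by simp [finrank_pi_fintype]))) S S₀ D T R hS
  refine ⟨E, h3, h4, ?_⟩
  rw [h5, card_zpowers_neg h2, Nat.card_fin]
  exact Nat.le_mul_of_pos_right _ Nat.card_pos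

theorem sixteen_le (hq : Nat.card F % 4 = 3) (D : Sylow 2 ((Fin 2 → F) ≃ₗ[F] (Fin 2 → F))) :
    16 ≤ Nat.card D.toSubgroup := by
  have h1 : 1 < Nat.card F := Finite.one_lt_card
  rw [Sylow.card_eq_multiplicity, val_gl h2 (n := 2 * 1) (by simp), val_prod_gl h1 (odd_card h2),
    val_of_mod (a := _ - 1) (by omega)]
  have h4 := padicValNat.pow_two_sub_one_ge h1 (odd_card h2).not_two_dvd_nat two_ne_zero even_two
  rw [← Nat.factorization_def _ Nat.prime_two, ← Nat.factorization_def _ Nat.prime_two, val_two] at h4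
  exact Nat.pow_le_pow_right two_pos (show 4 ≤ _ by omega)

theorem mem_zpowers_neg (hq : Nat.card F % 4 = 3) (D : Sylow 2 ((Fin 2 → F) ≃ₗ[F] (Fin 2 → F))) :
    ∀ x ∈ D.toSubgroup, x ^ 2 = 1 → (∀ d ∈ D.toSubgroup, Commute (d * x * d⁻¹) x) →
      x ∈ zpowers (LinearEquiv.neg F) := by
  intro x hx hx2 h
  by_contra hx'
  obtain ⟨b, hb⟩ := exists_basis_gl h2 (A := zpowers x) inferInstance (by
    rintro _ ⟨k, rfl⟩
    rw [← zpow_natCast, ← zpow_mul, mul_comm, zpow_mul, zpow_natCast, hx2, one_zpow])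
  obtain ⟨s, rfl⟩ := hb (mem_zpowers x)
  have hn : finrank F (Fin 2 → F) = 2 := by simp
  generalize finrank F (Fin 2 → F) = n at *
  subst hn
  have hs : s 0 ≠ s 1 := fun h => hx' (by
    rcases Int.units_eq_one_or (s 1) with h' | h'
    · rw [show s = 1 from funext (Fin.forall_fin_two.2 ⟨h.trans h', h'⟩), map_one]
      exact one_mem _
    · convert mem_zpowers _
      refine b.ext' (Fin.forall_fin_two.2 ⟨?_, ?_⟩) <;> simp [dg_apply, h, h'])
  have hc : ∀ d ∈ D.toSubgroup, d * dg b s = dg b s * d → d ∈ (dg b).range := by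
    intro d hd hc
    obtain ⟨k, hk⟩ := D.isPGroup' ⟨d, hd⟩
    have h1 : ∀ i, ∃ u : ℤˣ, d (b i) = ((u : ℤ) : F) • b i := by
      intro i
      have h3 : ∀ j, j ≠ i → b.repr (d (b i)) j = 0 := fun j hj => by
        have h4 := congrArg (fun v => b.repr v j) (LinearEquiv.congr_fun hc (b i))
        simp only [LinearEquiv.mul_apply, dg_apply, map_smul, Finsupp.smul_apply, smul_eq_mul] at h4
        conv_rhs at h4 => rw [← b.sum_repr (d (b i))]
        simp only [map_sum, map_smul, dg_apply, Basis.repr_self, Finsupp.coe_finset_sum,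
          Finset.sum_apply, Finsupp.smul_apply, Finsupp.single_apply, smul_eq_mul, mul_ite, mul_one,
          mul_zero, Finset.sum_ite_eq', Finset.mem_univ, if_true] at h4
        by_contra h5
        rw [mul_comm, mul_right_inj' h5] at h4
        have h6 : s i = s j := by
          rw [← mul_inv_eq_one]
          refine units_cast_eq_one h2 ?_
          rw [Int.units_inv_eq_self, Units.val_mul, Int.cast_mul, h4, ← Int.cast_mul,
            ← Units.val_mul, Int.units_mul_self]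
          simp
        fin_cases i <;> fin_cases j <;> simp_all
      have h4 : d (b i) = b.repr (d (b i)) i • b i := by
        conv_lhs => rw [← b.sum_repr (d (b i))]
        exact Finset.sum_eq_single i (fun j _ hj => by simp [h3 j hj]) (by simp)
      generalize b.repr (d (b i)) i = c at h4
      have h5 : ∀ l : ℕ, (d ^ l) (b i) = c ^ l • b i := fun l => by
        induction l with
        | zero => simp
        | succ l ih => rw [pow_succ', LinearEquiv.mul_apply, ih, map_smul, h4, smul_smul, pow_succ]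
      have h6 := h5 (2 ^ k)
      rw [show d ^ 2 ^ k = 1 from congrArg Subtype.val hk, LinearEquiv.coe_one, id, eq_comm,
        ← sub_eq_zero] at h6
      nth_rw 2 [← one_smul F (b i)] at h6
      rw [← sub_smul, smul_eq_zero_iff_left (b.ne_zero i), sub_eq_zero] at h6
      have h7 : c ≠ 0 := by rintro rfl; simp at h6
      rcases units_sq hq (u := Units.mk0 c h7) (k := k) (Units.ext h6) with h8 | h8
      · exact ⟨1, by rw [h4, show c = 1 from congrArg Units.val h8]; simp⟩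
      · exact ⟨-1, by rw [h4, show c = -1 from congrArg Units.val h8]; simp⟩
    choose u hu using h1
    exact ⟨u, b.ext' fun i => by rw [dg_apply, hu]⟩
  have h3 := card_le_of_conj (D := D.toSubgroup) (K := (dg b).range) (x := dg b s)
    (fun h => hx' (h ▸ one_mem _))
    (fun d hd => hc _ (mul_mem (mul_mem hd hx) (inv_mem hd)) (h d hd)) hc
  rw [← Nat.card_congr (MonoidHom.ofInjective (dg_injective h2 b)).toEquiv, card_signs] at h3
  simpa using (sixteen_le h2 hq D).trans h3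

theorem normal_ea_three (hq : Nat.card F % 4 = 3) (n : ℕ) (S : Sylow 2 (GL (Fin n) F)) :
    (∃ E : Subgroup (S : Subgroup (GL (Fin n) F)), E.Normal ∧ Cfsg.IsElementaryAbelian 2 E ∧
      2 ^ ((n + 1) / 2) ≤ Nat.card E) ∧ ∀ E : Subgroup (S : Subgroup (GL (Fin n) F)), E.Normal →
        Cfsg.IsElementaryAbelian 2 E → Nat.card E ≤ 2 ^ ((n + 1) / 2) := by
  obtain ⟨D⟩ : Nonempty (Sylow 2 ((Fin 2 → F) ≃ₗ[F] (Fin 2 → F))) := inferInstance
  obtain ⟨T⟩ : Nonempty (Sylow 2 (Perm (Fin (n / 2)))) := inferInstance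
  obtain ⟨R⟩ : Nonempty (Sylow 2 ((Fin (n % 2) → F) ≃ₗ[F] (Fin (n % 2) → F))) := inferInstance
  obtain ⟨S₀, hS⟩ := exists_sylow_two h2 (by omega) D T R
  let e := glEquiv (finBasisOfFinrankEq F ((Fin (n / 2) → Fin 2 → F) × (Fin (n % 2) → F)) (n := n)
    (by simp [finrank_pi_fintype]; omega))
  have hn : (n + 1) / 2 = n / 2 + n % 2 := by omega
  constructor
  · obtain ⟨E, h3, h4, h5⟩ := normal_ea_gl e S S₀ D T R hS
    refine ⟨E, h3, h4, ?_⟩
    rw [h5, card_zpowers_neg h2, Nat.card_fin, hn, pow_add]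
    refine Nat.mul_le_mul_left _ ?_
    rcases Nat.mod_two_eq_zero_or_one n with h | h <;> rw [h]
    · exact Nat.card_pos
    · rw [card_zpowers_neg h2, pow_one]
  · intro E hE hE'
    have := hE'.1
    let e' := (e.subgroupMap S).trans ((S.mapSurjective (f := e.toMonoidHom) e.surjective).equiv S₀)
    let f := S₀.toSubgroup.subtype.comp e'.toMonoidHom
    have hf : Function.Injective f := Subtype.val_injective.comp e'.injective
    have hr : f.range = (linWr F _ _ _).sub D T R := by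
      rw [MonoidHom.range_comp, MonoidHom.range_eq_top.2 e'.surjective, ← MonoidHom.range_eq_map,
        range_subtype, hS]
    obtain ⟨d, hd, hd'⟩ : ∃ d ∈ D.toSubgroup, d ^ 2 ≠ 1 := by
      by_contra! h
      have h3 := card_le_gl h2 (A := D.toSubgroup) ⟨⟨fun a b => ?_⟩⟩ h
      · simpa using (sixteen_le h2 hq D).trans h3
      · have h4 : ∀ c : D.toSubgroup, c⁻¹ = c := fun c =>
          inv_eq_of_mul_eq_one_left (Subtype.ext ((pow_two _).symm.trans (h c c.2)))
        rw [← h4 (a * b), mul_inv_rev, h4, h4]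
    have h3 := (linWr F _ _ _).le_of_normal (E := E.map f) (hr ▸ map_le_range _ _) (by
      rw [← hr]
      rintro _ ⟨g, rfl⟩ _ ⟨a, ha, rfl⟩
      rw [← map_inv, ← map_mul, ← map_mul]
      exact mem_map_of_mem _ (hE.conj_mem a ha g)) inferInstance (by
      rintro _ ⟨a, ha, rfl⟩
      rw [← map_pow, hE'.2 a ha, map_one]) hd hd' (mem_zpowers_neg h2 hq D)
    rw [← card_map_of_injective hf]
    refine (card_le_of_le h3).trans ?_
    rw [Wr.card_sub, card_zpowers_neg h2, Nat.card_fin, hn, pow_add, card_bot, mul_one,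
      Sylow.card_eq_multiplicity, val_gl h2 (n := n % 2) (by simp)]
    rcases Nat.mod_two_eq_zero_or_one n with h | h <;> rw [h]
    · simp
    · simp [val_of_mod (a := Nat.card F - 1) (by omega)]

end Cfsg.Agent.Syl2
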